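import Groth.Agent.MorLib.BaseChangeLim
import Groth.Agent.DSPtsLib.Basic
import Groth.Prelude.Def_Red

/-!
# Morphisms of base changes: comparison of iterated base changes, and descent along limits
-/

open CategoryTheory CategoryTheory.Limits MonoidalCategory CartesianMonoidalCategory MonObj GrpObj AlgebraicGeometry

universe u

noncomputable section

namespace Groth.Agent.GrpLimLib

section Cmp

variable {S S' S'' : Scheme.{u}} {g : S' ⟶ S} {h : S'' ⟶ S'} {k : S'' ⟶ S}

/-- The composite projection of an iterated base change. -/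
abbrev pr (g : S' ⟶ S) (h : S'' ⟶ S') (G : Over S) : (Red.bc h (Red.bc g G)).left ⟶ G.left :=
  pullback.fst (Red.bc g G).hom h ≫ pullback.fst G.hom g

theorem hom_ext₂ {X : Over S''} {G : Over S} {a b : X ⟶ Red.bc h (Red.bc g G)}
    (e : a.left ≫ pr g h G = b.left ≫ pr g h G) : a = b := by
  have hs : a.left ≫ pullback.snd (Red.bc g G).hom h = b.left ≫ pullback.snd (Red.bc g G).hom h :=
    (Over.w a).trans (Over.w b).symm
  refine Over.OverMorphism.ext (pullback.hom_ext (pullback.hom_ext ?_ ?_) hs)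
  · simpa [pr] using e
  · have hc : pullback.fst (Red.bc g G).hom h ≫ pullback.snd G.hom g = pullback.snd (Red.bc g G).hom h ≫ h :=
      pullback.condition
    rw [Category.assoc, Category.assoc]
    refine (congrArg (a.left ≫ ·) hc).trans (Eq.trans ?_ (congrArg (b.left ≫ ·) hc).symm)
    rw [← Category.assoc, ← Category.assoc, hs]

theorem hom_ext₁ {X : Over S'} {G : Over S} {a b : X ⟶ Red.bc g G}
    (e : a.left ≫ pullback.fst G.hom g = b.left ≫ pullback.fst G.hom g) : a = b :=
  Over.OverMorphism.ext (pullback.hom_ext e ((Over.w a).trans (Over.w b).symm))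

/-- The comparison of an iterated base change with the base change along the composite. -/
abbrev cmp (e : h ≫ g = k) (G : Over S) : Red.bc h (Red.bc g G) ≅ Red.bc k G :=
  ((Over.pullbackComp h g).app G).symm ≪≫ eqToIso (congrArg (fun q => Red.bc q G) e)

theorem cmp_hom_fst (e : h ≫ g = k) (G : Over S) :
    (cmp e G).hom.left ≫ pullback.fst G.hom k = pr g h G := by
  subst e
  simp [cmp, pr, Over.pullbackComp, conjugateEquiv_apply_app]
  erw [pullback.lift_fst, pullback.lift_fst_assoc]
  simp only [Category.assoc]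
  erw [pullback.lift_fst_assoc, pullback.lift_fst_assoc, Category.id_comp]

theorem cmp_inv_fst (e : h ≫ g = k) (G : Over S) :
    (cmp e G).inv.left ≫ pr g h G = pullback.fst G.hom k := by
  rw [← cmp_hom_fst e G, ← Category.assoc, ← Over.comp_left, Iso.inv_hom_id, Over.id_left, Category.id_comp]

theorem map_left_fst {X Y : Over S'} (u : X ⟶ Y) :
    ((Over.pullback h).map u).left ≫ pullback.fst Y.hom h = pullback.fst X.hom h ≫ u.left :=
  pullback.lift_fst _ _ _

instance isMonHom_cmp (e : h ≫ g = k) (G : Over S) [GrpObj G] : IsMonHom (cmp e G).hom := by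
  suffices hm : μ[Red.bc h (Red.bc g G)] ≫ (cmp e G).hom = ((cmp e G).hom ⊗ₘ (cmp e G).hom) ≫ μ[Red.bc k G] by
    refine ⟨?_, hm⟩
    have h1 : (1 : 𝟙_ (Over S'') ⟶ Red.bc h (Red.bc g G)) * 1 = 1 := _root_.mul_one 1
    rw [Hom.mul_def] at h1
    have h2 : ((1 : 𝟙_ (Over S'') ⟶ Red.bc h (Red.bc g G)) ≫ (cmp e G).hom) * (1 ≫ (cmp e G).hom) =
        1 ≫ (cmp e G).hom := by
      rw [Hom.mul_def, ← lift_map, Category.assoc, ← hm, ← Category.assoc, h1]
    have h3 := mul_eq_right.mp h2
    simpa [Hom.one_def, toUnit_unique (toUnit (𝟙_ (Over S''))) (𝟙 _)] using h3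
  apply hom_ext₁
  have h1 : μ[Red.bc h (Red.bc g G)] =
      Functor.LaxMonoidal.μ (Over.pullback h) _ _ ≫ (Over.pullback h).map μ[Red.bc g G] := rfl
  have h2 : μ[Red.bc g G] = Functor.LaxMonoidal.μ (Over.pullback g) _ _ ≫ (Over.pullback g).map μ[G] := rfl
  have h3 : μ[Red.bc k G] = Functor.LaxMonoidal.μ (Over.pullback k) _ _ ≫ (Over.pullback k).map μ[G] := rfl
  simp only [Over.comp_left, Category.assoc, cmp_hom_fst]
  rw [h1, h3]
  simp only [pr, Over.comp_left, Category.assoc]
  have a1 := map_left_fst (h := h) μ[Red.bc g G]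
  have b : ((Over.pullback k).map μ[G]).left ≫ pullback.fst G.hom k = pullback.fst (G ⊗ G).hom k ≫ μ[G].left :=
    map_left_fst _
  rw [reassoc_of% a1, b, h2, Over.comp_left, Category.assoc, map_left_fst]
  simp only [← Category.assoc]
  congr 1
  refine pullback.hom_ext ?_ ?_
  · simp only [Category.assoc, Over.μ_pullback_left_fst_fst]
    have l1 := Over.μ_pullback_left_fst_fst (f := h) (Red.bc g G) (Red.bc g G)
    have r1 : ((cmp e G).hom ⊗ₘ (cmp e G).hom).left ≫ pullback.fst (Red.bc k G).hom (Red.bc k G).hom =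
        pullback.fst _ _ ≫ (cmp e G).hom.left :=
      congrArg CommaMorphism.left (tensorHom_fst (cmp e G).hom (cmp e G).hom)
    rw [reassoc_of% l1, reassoc_of% r1, cmp_hom_fst]
  · simp only [Category.assoc, Over.μ_pullback_left_fst_snd]
    have l1 := Over.μ_pullback_left_fst_snd (f := h) (Red.bc g G) (Red.bc g G)
    have r1 : ((cmp e G).hom ⊗ₘ (cmp e G).hom).left ≫ pullback.snd (Red.bc k G).hom (Red.bc k G).hom =
        pullback.snd _ _ ≫ (cmp e G).hom.left :=
      congrArg CommaMorphism.left (tensorHom_snd (cmp e G).hom (cmp e G).hom)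
    rw [reassoc_of% l1, reassoc_of% r1, cmp_hom_fst]

theorem isMonHom_map_iff {X Y : Over S'} [GrpObj X] [GrpObj Y] (u : X ⟶ Y) :
    IsMonHom ((Over.pullback h).map u) ↔
      (Over.pullback h).map (μ[X] ≫ u) = (Over.pullback h).map ((u ⊗ₘ u) ≫ μ[Y]) := by
  have h1 : μ[(Over.pullback h).obj X] = Functor.LaxMonoidal.μ (Over.pullback h) X X ≫ (Over.pullback h).map μ[X] := rfl
  have h2 : μ[(Over.pullback h).obj Y] = Functor.LaxMonoidal.μ (Over.pullback h) Y Y ≫ (Over.pullback h).map μ[Y] := rfl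
  refine ⟨fun hu => ?_, fun hu => ?_⟩
  · have := hu.mul_hom
    rw [h1, h2, Category.assoc, Functor.LaxMonoidal.μ_natural_assoc, cancel_epi,
      ← Functor.map_comp, ← Functor.map_comp] at this
    exact this
  · have hm : μ[(Over.pullback h).obj X] ≫ (Over.pullback h).map u =
        ((Over.pullback h).map u ⊗ₘ (Over.pullback h).map u) ≫ μ[(Over.pullback h).obj Y] := by
      rw [h1, h2, Category.assoc, Functor.LaxMonoidal.μ_natural_assoc, ← Functor.map_comp, hu, Functor.map_comp]
    refine ⟨?_, hm⟩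
    have e1 : (1 : 𝟙_ (Over S'') ⟶ (Over.pullback h).obj X) * 1 = 1 := _root_.mul_one 1
    rw [Hom.mul_def] at e1
    have e2 : ((1 : 𝟙_ (Over S'') ⟶ (Over.pullback h).obj X) ≫ (Over.pullback h).map u) *
        (1 ≫ (Over.pullback h).map u) = 1 ≫ (Over.pullback h).map u := by
      rw [Hom.mul_def, ← lift_map, Category.assoc, ← hm, ← Category.assoc, e1]
    have e3 := mul_eq_right.mp e2
    simpa [Hom.one_def, toUnit_unique (toUnit (𝟙_ (Over S''))) (𝟙 _)] using e3

end Cmp

variable {I : Type u} [SmallCategory I] [IsCofiltered I] (D : I ⥤ Scheme.{u}) {c : Cone D} (hc : IsLimit c)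
  [∀ (i i' : I) (f : i ⟶ i'), IsAffineHom (D.map f)] [∀ i, CompactSpace (D.obj i)]
  [∀ i, QuasiSeparatedSpace (D.obj i)]

include hc in
/-- Two morphisms over a stage which agree over the limit agree over a later stage. -/
theorem exists_map_eq {i : I} {P Q : Over (D.obj i)} [QuasiCompact P.hom] [QuasiSeparated P.hom]
    [LocallyOfFiniteType Q.hom] (a b : P ⟶ Q)
    (hab : (Over.pullback (c.π.app i)).map a = (Over.pullback (c.π.app i)).map b) :
    ∃ (i' : I) (g : i' ⟶ i), (Over.pullback (D.map g)).map a = (Over.pullback (D.map g)).map b := by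
  haveI : ∀ {i j : I} (f : i ⟶ j), IsAffineHom (D.map f) := fun {i j} f => inferInstance
  haveI : CompactSpace P.left := QuasiCompact.compactSpace_of_compactSpace P.hom
  haveI : QuasiSeparatedSpace P.left := quasiSeparatedSpace_of_quasiSeparated P.hom
  let hX := IsPullback.of_hasPullback P.hom (c.π.app i)
  let t : MorLib.BC.diag D P.hom ⟶ (Functor.const (Over i)).obj (D.obj i) :=
    MorLib.BC.toStart D P.hom ≫ (Functor.const (Over i)).map P.hom
  haveI : LocallyOfFiniteType Q.hom := inferInstance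
  let j₀ : Over i := Over.mk (𝟙 i)
  obtain ⟨k, hk, e⟩ := Scheme.exists_hom_comp_eq_comp_of_locallyOfFiniteType (MorLib.BC.diag D P.hom) t
    Q.hom (MorLib.BC.cone D P.hom hX) (MorLib.BC.isLimitCone D P.hom hX hc) (i := j₀)
    (pullback.fst _ _ ≫ a.left) (pullback.fst _ _ ≫ b.left)
    (by show pullback.fst _ _ ≫ P.hom = _; erw [Category.assoc, Over.w a]; rfl)
    (by show pullback.fst _ _ ≫ P.hom = _; erw [Category.assoc, Over.w b]; rfl)
    (by
      show MorLib.BC.proj D P.hom hX j₀ ≫ _ = MorLib.BC.proj D P.hom hX j₀ ≫ _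
      refine (MorLib.BC.proj_fst_assoc D P.hom hX j₀ _).trans
        (Eq.trans ?_ (MorLib.BC.proj_fst_assoc D P.hom hX j₀ _).symm)
      have := congrArg (fun m => m.left ≫ pullback.fst Q.hom (c.π.app i)) hab
      simpa only [map_left_fst] using this)
  refine ⟨k.left, k.hom, hom_ext₁ ?_⟩
  simp only [map_left_fst]
  refine ((congrArg (· ≫ a.left) (MorLib.BC.map_fst D P.hom hk)).symm.trans (Category.assoc _ _ _)).trans
    (e.trans ?_)
  exact ((Category.assoc _ _ _).symm.trans (congrArg (· ≫ b.left) (MorLib.BC.map_fst D P.hom hk)))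

include hc in
/-- A morphism over the limit comes from a stage. -/
theorem exists_map_fst_eq {j : I} {P Q : Over (D.obj j)} [QuasiCompact P.hom] [QuasiSeparated P.hom]
    [LocallyOfFinitePresentation Q.hom] (u : Red.bc (c.π.app j) P ⟶ Red.bc (c.π.app j) Q) :
    ∃ (i : I) (f : i ⟶ j) (ui : Red.bc (D.map f) P ⟶ Red.bc (D.map f) Q),
      (Over.pullback (c.π.app i)).map ui = (cmp (c.w f) P).hom ≫ u ≫ (cmp (c.w f) Q).inv := by
  haveI : ∀ {i j : I} (f : i ⟶ j), IsAffineHom (D.map f) := fun {i j} f => inferInstance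
  haveI : CompactSpace P.left := QuasiCompact.compactSpace_of_compactSpace P.hom
  haveI : QuasiSeparatedSpace P.left := quasiSeparatedSpace_of_quasiSeparated P.hom
  let hX := IsPullback.of_hasPullback P.hom (c.π.app j)
  let t : MorLib.BC.diag D P.hom ⟶ (Functor.const (Over j)).obj (D.obj j) :=
    MorLib.BC.toStart D P.hom ≫ (Functor.const (Over j)).map P.hom
  obtain ⟨k, v, hv1, hv2⟩ := Scheme.exists_π_app_comp_eq_of_locallyOfFinitePresentation
    (MorLib.BC.diag D P.hom) t Q.hom (MorLib.BC.cone D P.hom hX) (MorLib.BC.isLimitCone D P.hom hX hc)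
    (u.left ≫ pullback.fst Q.hom (c.π.app j)) (by
      ext l
      show MorLib.BC.proj D P.hom hX l ≫ pullback.fst _ _ ≫ P.hom = (u.left ≫ pullback.fst _ _) ≫ Q.hom
      rw [MorLib.BC.proj_fst_assoc, Category.assoc, pullback.condition, pullback.condition,
        ← Category.assoc]
      exact congrArg (· ≫ _) (Over.w u).symm)
  let ui : Red.bc (D.map k.hom) P ⟶ Red.bc (D.map k.hom) Q :=
    Over.homMk (pullback.lift v (pullback.snd P.hom (D.map k.hom)) (hv2.trans pullback.condition))
      (pullback.lift_snd _ _ _)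
  have hui : ui.left ≫ pullback.fst Q.hom (D.map k.hom) = v := pullback.lift_fst _ _ _
  refine ⟨k.left, k.hom, ui, hom_ext₂ ?_⟩
  rw [Over.comp_left, Over.comp_left, Category.assoc, Category.assoc, cmp_inv_fst]
  refine ((Category.assoc _ _ _).symm.trans ((congrArg (· ≫ pullback.fst Q.hom (D.map k.hom))
    (map_left_fst ui)).trans ((Category.assoc _ _ _).trans (congrArg (_ ≫ ·) hui)))).trans ?_
  refine Eq.trans ?_ (congrArg (_ ≫ ·) hv1)
  have hp : pullback.fst (Red.bc (D.map k.hom) P).hom (c.π.app k.left) =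
      (cmp (c.w k.hom) P).hom.left ≫ MorLib.BC.proj D P.hom hX k := by
    refine pullback.hom_ext ?_ ?_
    · refine Eq.trans ?_ (Category.assoc _ _ _).symm
      rw [MorLib.BC.proj_fst]
      exact (cmp_hom_fst _ _).symm
    · refine Eq.trans ?_ (Category.assoc _ _ _).symm
      rw [MorLib.BC.proj_snd]
      refine pullback.condition.trans ?_
      exact congrArg (· ≫ _) (Over.w (cmp (c.w k.hom) P).hom).symm
  exact (congrArg (· ≫ v) hp).trans (Category.assoc _ _ _)

end Groth.Agent.GrpLimLib
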