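import Groth.Agent.GrpLimLib.NormalMono

/-!
# Descent of group structures along limits

A group law on the base change of `X` along `h` is a triple of morphisms into `X`; these, and the equations between them,
come from a stage of a limit.
-/

open CategoryTheory CategoryTheory.Limits MonoidalCategory CartesianMonoidalCategory MonObj GrpObj AlgebraicGeometry

universe u

noncomputable section

namespace Groth.Agent.GrpLimLib

variable {T₀ T T' : Scheme.{u}} (X : Over T₀)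

/-- Operations on `X` over `h`. -/
structure Ops (h : T ⟶ T₀) where
  /-- product -/
  m : pullback (X ⊗ X).hom h ⟶ X.left
  hm : m ≫ X.hom = pullback.fst (X ⊗ X).hom h ≫ (X ⊗ X).hom
  /-- inverse -/
  i : pullback X.hom h ⟶ X.left
  hi : i ≫ X.hom = pullback.fst X.hom h ≫ X.hom
  /-- unit -/
  e : T ⟶ X.left
  he : e ≫ X.hom = h

variable {X} {h : T ⟶ T₀}

/-- The product of two points. -/
def Ops.mul (o : Ops X h) {Y : Scheme.{u}} (s : Y ⟶ T) (x y : Y ⟶ X.left) (hx : x ≫ X.hom = s ≫ h)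
    (hy : y ≫ X.hom = s ≫ h) : Y ⟶ X.left :=
  pullback.lift (f := (X ⊗ X).hom) (pullback.lift (f := X.hom) (g := X.hom) x y (hx.trans hy.symm)) s
    ((pullback.lift_fst_assoc _ _ _ _).trans hx) ≫ o.m

/-- The inverse of a point. -/
def Ops.inv (o : Ops X h) {Y : Scheme.{u}} (s : Y ⟶ T) (x : Y ⟶ X.left) (hx : x ≫ X.hom = s ≫ h) : Y ⟶ X.left :=
  pullback.lift x s hx ≫ o.i

theorem Ops.mul_w (o : Ops X h) {Y : Scheme.{u}} (s : Y ⟶ T) (x y : Y ⟶ X.left) (hx : x ≫ X.hom = s ≫ h)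
    (hy : y ≫ X.hom = s ≫ h) : o.mul s x y hx hy ≫ X.hom = s ≫ h := by
  rw [Ops.mul, Category.assoc, o.hm, pullback.lift_fst_assoc]
  exact (pullback.lift_fst_assoc _ _ _ _).trans hx

theorem Ops.inv_w (o : Ops X h) {Y : Scheme.{u}} (s : Y ⟶ T) (x : Y ⟶ X.left) (hx : x ≫ X.hom = s ≫ h) :
    o.inv s x hx ≫ X.hom = s ≫ h := by
  rw [Ops.inv, Category.assoc, o.hi, pullback.lift_fst_assoc, hx]

theorem Ops.e_w (o : Ops X h) {Y : Scheme.{u}} (s : Y ⟶ T) : (s ≫ o.e) ≫ X.hom = s ≫ h := by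
  rw [Category.assoc, o.he]

theorem Ops.comp_mul (o : Ops X h) {Y Y' : Scheme.{u}} (q : Y' ⟶ Y) (s : Y ⟶ T) (x y : Y ⟶ X.left)
    (hx : x ≫ X.hom = s ≫ h) (hy : y ≫ X.hom = s ≫ h) :
    q ≫ o.mul s x y hx hy = o.mul (q ≫ s) (q ≫ x) (q ≫ y) (by rw [Category.assoc, hx, Category.assoc])
      (by rw [Category.assoc, hy, Category.assoc]) := by
  rw [Ops.mul, Ops.mul, ← Category.assoc]
  congr 1
  refine pullback.hom_ext ?_ ?_
  · rw [Category.assoc, pullback.lift_fst, pullback.lift_fst]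
    refine pullback.hom_ext ?_ ?_
    · rw [Category.assoc, pullback.lift_fst, pullback.lift_fst]
    · rw [Category.assoc, pullback.lift_snd, pullback.lift_snd]
  · rw [Category.assoc, pullback.lift_snd, pullback.lift_snd]

theorem Ops.comp_inv (o : Ops X h) {Y Y' : Scheme.{u}} (q : Y' ⟶ Y) (s : Y ⟶ T) (x : Y ⟶ X.left)
    (hx : x ≫ X.hom = s ≫ h) :
    q ≫ o.inv s x hx = o.inv (q ≫ s) (q ≫ x) (by rw [Category.assoc, hx, Category.assoc]) := by
  rw [Ops.inv, Ops.inv, ← Category.assoc]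
  congr 1
  refine pullback.hom_ext ?_ ?_
  · rw [Category.assoc, pullback.lift_fst, pullback.lift_fst]
  · rw [Category.assoc, pullback.lift_snd, pullback.lift_snd]

theorem Ops.mul_congr (o : Ops X h) {Y : Scheme.{u}} {s s' : Y ⟶ T} {x x' y y' : Y ⟶ X.left} (es : s = s')
    (ex : x = x') (ey : y = y') (hx : x ≫ X.hom = s ≫ h) (hy : y ≫ X.hom = s ≫ h) (hx' : x' ≫ X.hom = s' ≫ h)
    (hy' : y' ≫ X.hom = s' ≫ h) : o.mul s x y hx hy = o.mul s' x' y' hx' hy' := by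
  subst es ex ey
  rfl

theorem Ops.inv_congr (o : Ops X h) {Y : Scheme.{u}} {s s' : Y ⟶ T} {x x' : Y ⟶ X.left} (es : s = s') (ex : x = x')
    (hx : x ≫ X.hom = s ≫ h) (hx' : x' ≫ X.hom = s' ≫ h) : o.inv s x hx = o.inv s' x' hx' := by
  subst es ex
  rfl

/-- The map of base changes. -/
abbrev bcMap (P : Over T₀) (q : T' ⟶ T) (h : T ⟶ T₀) : pullback P.hom (q ≫ h) ⟶ pullback P.hom h :=
  pullback.lift (pullback.fst _ _) (pullback.snd _ _ ≫ q) (by rw [Category.assoc, pullback.condition])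

/-- The operations over a scheme over `T`. -/
def Ops.pull (o : Ops X h) (q : T' ⟶ T) : Ops X (q ≫ h) where
  m := bcMap _ q h ≫ o.m
  hm := by rw [Category.assoc, o.hm, pullback.lift_fst_assoc]
  i := bcMap _ q h ≫ o.i
  hi := by rw [Category.assoc, o.hi, pullback.lift_fst_assoc]
  e := q ≫ o.e
  he := by rw [Category.assoc, o.he]

theorem Ops.pull_mul (o : Ops X h) (q : T' ⟶ T) {Y : Scheme.{u}} (s : Y ⟶ T') (x y : Y ⟶ X.left)
    (hx : x ≫ X.hom = s ≫ q ≫ h) (hy : y ≫ X.hom = s ≫ q ≫ h) :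
    (o.pull q).mul s x y hx hy = o.mul (s ≫ q) x y (hx.trans (Category.assoc _ _ _).symm)
      (hy.trans (Category.assoc _ _ _).symm) := by
  rw [Ops.mul, Ops.mul, Ops.pull, ← Category.assoc]
  congr 1
  refine pullback.hom_ext ?_ ?_
  · rw [Category.assoc, pullback.lift_fst, pullback.lift_fst, pullback.lift_fst]
  · rw [Category.assoc, pullback.lift_snd, pullback.lift_snd_assoc, pullback.lift_snd]

theorem Ops.pull_inv (o : Ops X h) (q : T' ⟶ T) {Y : Scheme.{u}} (s : Y ⟶ T') (x : Y ⟶ X.left)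
    (hx : x ≫ X.hom = s ≫ q ≫ h) :
    (o.pull q).inv s x hx = o.inv (s ≫ q) x (hx.trans (Category.assoc _ _ _).symm) := by
  rw [Ops.inv, Ops.inv, Ops.pull, ← Category.assoc]
  congr 1
  refine pullback.hom_ext ?_ ?_
  · rw [Category.assoc, pullback.lift_fst, pullback.lift_fst, pullback.lift_fst]
  · rw [Category.assoc, pullback.lift_snd, pullback.lift_snd_assoc, pullback.lift_snd]

/-- The axioms of a group at a given pair of a scheme over `T` and three points. -/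
structure Ops.AxAt (o : Ops X h) {Y : Scheme.{u}} (s : Y ⟶ T) (x y z : Y ⟶ X.left) (hx : x ≫ X.hom = s ≫ h)
    (hy : y ≫ X.hom = s ≫ h) (hz : z ≫ X.hom = s ≫ h) : Prop where
  assoc : o.mul s (o.mul s x y hx hy) z (o.mul_w s x y hx hy) hz =
    o.mul s x (o.mul s y z hy hz) hx (o.mul_w s y z hy hz)
  one_mul : o.mul s (s ≫ o.e) x (o.e_w s) hx = x
  mul_one : o.mul s x (s ≫ o.e) hx (o.e_w s) = x
  inv_mul : o.mul s (o.inv s x hx) x (o.inv_w s x hx) hx = s ≫ o.e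
  mul_inv : o.mul s x (o.inv s x hx) hx (o.inv_w s x hx) = s ≫ o.e

/-- The axioms of a group. -/
def Ops.IsGrp (o : Ops X h) : Prop :=
  ∀ (Y : Scheme.{u}) (s : Y ⟶ T) (x y z : Y ⟶ X.left) (hx : x ≫ X.hom = s ≫ h) (hy : y ≫ X.hom = s ≫ h)
    (hz : z ≫ X.hom = s ≫ h), o.AxAt s x y z hx hy hz

section Build

variable (o : Ops X h)

/-- A point of the base change, seen in `X`. -/
abbrev Ops.pt {Y : Over T} (a : Y ⟶ Red.bc h X) : Y.left ⟶ X.left := a.left ≫ pullback.fst X.hom h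

omit o in
theorem Ops.pt_w {Y : Over T} (a : Y ⟶ Red.bc h X) : Ops.pt a ≫ X.hom = Y.hom ≫ h := by
  rw [Category.assoc, pullback.condition]
  exact (Category.assoc _ _ _).symm.trans (congrArg (· ≫ h) (Over.w a))

/-- The product on the base change. -/
def Ops.mulHom : Red.bc h X ⊗ Red.bc h X ⟶ Red.bc h X :=
  Over.homMk (pullback.lift (o.mul _ _ _ (Ops.pt_w (fst (Red.bc h X) (Red.bc h X))) (Ops.pt_w (snd _ _)))
    (Red.bc h X ⊗ Red.bc h X).hom (o.mul_w _ _ _ _ _)) (pullback.lift_snd _ _ _)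

theorem Ops.pt_mulHom {Y : Over T} (a b : Y ⟶ Red.bc h X) :
    Ops.pt (lift a b ≫ o.mulHom) = o.mul Y.hom (Ops.pt a) (Ops.pt b) (Ops.pt_w a) (Ops.pt_w b) := by
  have h1 : (o.mulHom).left ≫ pullback.fst X.hom h =
      o.mul _ _ _ (Ops.pt_w (fst (Red.bc h X) (Red.bc h X))) (Ops.pt_w (snd _ _)) := pullback.lift_fst _ _ _
  show (lift a b ≫ o.mulHom).left ≫ pullback.fst X.hom h = _
  rw [Over.comp_left, Category.assoc, h1, Ops.comp_mul]
  refine o.mul_congr (Over.w (lift a b)) ?_ ?_ _ _ _ _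
  · show _ ≫ (fst (Red.bc h X) (Red.bc h X)).left ≫ _ = _
    rw [← Category.assoc, ← Over.comp_left, lift_fst]
  · show _ ≫ (snd (Red.bc h X) (Red.bc h X)).left ≫ _ = _
    rw [← Category.assoc, ← Over.comp_left, lift_snd]

/-- The inverse on the base change. -/
def Ops.invHom : Red.bc h X ⟶ Red.bc h X :=
  Over.homMk (pullback.lift (o.inv _ _ (Ops.pt_w (𝟙 (Red.bc h X)))) (Red.bc h X).hom (o.inv_w _ _ _))
    (pullback.lift_snd _ _ _)

theorem Ops.pt_invHom {Y : Over T} (a : Y ⟶ Red.bc h X) :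
    Ops.pt (a ≫ o.invHom) = o.inv Y.hom (Ops.pt a) (Ops.pt_w a) := by
  have h1 : (o.invHom).left ≫ pullback.fst X.hom h = o.inv _ _ (Ops.pt_w (𝟙 (Red.bc h X))) := pullback.lift_fst _ _ _
  show (a ≫ o.invHom).left ≫ pullback.fst X.hom h = _
  rw [Over.comp_left, Category.assoc, h1, Ops.comp_inv]
  refine o.inv_congr (Over.w a) ?_ _ _
  show a.left ≫ 𝟙 _ ≫ _ = _
  rw [Category.id_comp]

/-- The unit on the base change. -/
def Ops.oneHom : 𝟙_ (Over T) ⟶ Red.bc h X :=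
  Over.homMk (pullback.lift o.e (𝟙 T) (o.he.trans (Category.id_comp h).symm)) (pullback.lift_snd _ _ _)

theorem Ops.pt_oneHom (Y : Over T) : Ops.pt (toUnit Y ≫ o.oneHom) = Y.hom ≫ o.e := by
  show (toUnit Y ≫ o.oneHom).left ≫ pullback.fst X.hom h = _
  rw [Over.comp_left, Category.assoc]
  exact congrArg (_ ≫ ·) (pullback.lift_fst _ _ _)

omit o in
theorem Ops.pt_ext {Y : Over T} {a b : Y ⟶ Red.bc h X} (e : Ops.pt a = Ops.pt b) : a = b := hom_ext₁ e

/-- The group structure on the base change. -/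
def Ops.grpObj (ho : o.IsGrp) : GrpObj (Red.bc h X) :=
  let P := Red.bc h X
  have key : ∀ {Y : Over T} (a b c : Y ⟶ P),
      lift (lift a b ≫ o.mulHom) c ≫ o.mulHom = lift a (lift b c ≫ o.mulHom) ≫ o.mulHom ∧
      lift (toUnit Y ≫ o.oneHom) a ≫ o.mulHom = a ∧ lift a (toUnit Y ≫ o.oneHom) ≫ o.mulHom = a ∧
      lift (a ≫ o.invHom) a ≫ o.mulHom = toUnit Y ≫ o.oneHom ∧
      lift a (a ≫ o.invHom) ≫ o.mulHom = toUnit Y ≫ o.oneHom := by
    intro Y a b c
    have A := ho Y.left Y.hom (Ops.pt a) (Ops.pt b) (Ops.pt c) (Ops.pt_w a) (Ops.pt_w b) (Ops.pt_w c)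
    refine ⟨Ops.pt_ext ?_, Ops.pt_ext ?_, Ops.pt_ext ?_, Ops.pt_ext ?_, Ops.pt_ext ?_⟩
    · exact (o.pt_mulHom _ _).trans (((o.mul_congr rfl (o.pt_mulHom a b) rfl _ _ _ _).trans
        (A.assoc.trans (o.mul_congr rfl rfl (o.pt_mulHom b c).symm _ _ _ _))).trans (o.pt_mulHom _ _).symm)
    · rw [Ops.pt_mulHom]
      exact (o.mul_congr rfl (o.pt_oneHom Y) rfl _ _ _ _).trans A.one_mul
    · rw [Ops.pt_mulHom]
      exact (o.mul_congr rfl rfl (o.pt_oneHom Y) _ _ _ _).trans A.mul_one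
    · rw [Ops.pt_mulHom, o.pt_oneHom]
      exact (o.mul_congr rfl (o.pt_invHom a) rfl _ _ _ _).trans A.inv_mul
    · rw [Ops.pt_mulHom, o.pt_oneHom]
      exact (o.mul_congr rfl rfl (o.pt_invHom a) _ _ _ _).trans A.mul_inv
  { one := o.oneHom
    mul := o.mulHom
    inv := o.invHom
    one_mul := by
      have e : o.oneHom ▷ P = lift (toUnit _ ≫ o.oneHom) (snd _ _) := by
        ext1
        · rw [whiskerRight_fst, lift_fst, toUnit_unique (fst _ _) (toUnit _)]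
        · rw [whiskerRight_snd, lift_snd]
      show o.oneHom ▷ P ≫ o.mulHom = _
      rw [e, (key (snd (𝟙_ (Over T)) P) (snd _ _) (snd _ _)).2.1, leftUnitor_hom]
    mul_one := by
      have e : P ◁ o.oneHom = lift (fst _ _) (toUnit _ ≫ o.oneHom) := by
        ext1
        · rw [whiskerLeft_fst, lift_fst]
        · rw [whiskerLeft_snd, lift_snd, toUnit_unique (snd _ _) (toUnit _)]
      show P ◁ o.oneHom ≫ o.mulHom = _
      rw [e, (key (fst P (𝟙_ (Over T))) (fst _ _) (fst _ _)).2.2.1, rightUnitor_hom]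
    mul_assoc := by
      let a := fst (P ⊗ P) P ≫ fst P P
      let b := fst (P ⊗ P) P ≫ snd P P
      let c := snd (P ⊗ P) P
      have e1 : o.mulHom ▷ P = lift (lift a b ≫ o.mulHom) c := by
        ext1
        · rw [whiskerRight_fst, lift_fst, ← comp_lift, lift_fst_snd, Category.comp_id]
        · rw [whiskerRight_snd, lift_snd]
      have e2 : (α_ P P P).hom ≫ P ◁ o.mulHom = lift a (lift b c ≫ o.mulHom) := by
        ext1
        · rw [Category.assoc, whiskerLeft_fst, associator_hom_fst, lift_fst]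
        · rw [Category.assoc, whiskerLeft_snd, lift_snd, ← Category.assoc]
          congr 1
          ext1
          · rw [Category.assoc, associator_hom_snd_fst, lift_fst]
          · rw [Category.assoc, associator_hom_snd_snd, lift_snd]
      show o.mulHom ▷ P ≫ o.mulHom = (α_ P P P).hom ≫ P ◁ o.mulHom ≫ o.mulHom
      rw [e1, ← Category.assoc, e2]
      exact (key a b c).1
    left_inv := by
      have := (key (𝟙 P) (𝟙 P) (𝟙 P)).2.2.2.1
      rwa [Category.id_comp] at this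
    right_inv := by
      have := (key (𝟙 P) (𝟙 P) (𝟙 P)).2.2.2.2
      rwa [Category.id_comp] at this }

theorem Ops.pt_mul (ho : o.IsGrp) {Y : Over T} (a b : Y ⟶ Red.bc h X) :
    letI := o.grpObj ho
    Ops.pt (a * b) = o.mul Y.hom (Ops.pt a) (Ops.pt b) (Ops.pt_w a) (Ops.pt_w b) := by
  letI := o.grpObj ho
  rw [Hom.mul_def]
  exact o.pt_mulHom a b

end Build

variable {I : Type u} [SmallCategory I] [IsCofiltered I] (D : I ⥤ Scheme.{u}) {c : Cone D} (hc : IsLimit c)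
  [∀ (i i' : I) (f : i ⟶ i'), IsAffineHom (D.map f)] [∀ i, CompactSpace (D.obj i)]
  [∀ i, QuasiSeparatedSpace (D.obj i)]

include hc in
/-- A morphism over the limit comes from a stage, as a morphism into `Q`. -/
theorem exists_stage_hom {j : I} {P : Over (D.obj j)} [QuasiCompact P.hom] [QuasiSeparated P.hom] {Q R : Scheme.{u}}
    (m : Q ⟶ R) [LocallyOfFinitePresentation m] (C : P.left ⟶ R) (v : pullback P.hom (c.π.app j) ⟶ Q)
    (hv : v ≫ m = pullback.fst P.hom (c.π.app j) ≫ C) :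
    ∃ (i : I) (f : i ⟶ j) (v' : pullback P.hom (D.map f) ⟶ Q), v' ≫ m = pullback.fst P.hom (D.map f) ≫ C ∧
      pullback.lift (pullback.fst _ _) (pullback.snd _ _ ≫ c.π.app i)
        (by rw [Category.assoc, c.w f, pullback.condition]) ≫ v' = v := by
  haveI : ∀ {i j : I} (f : i ⟶ j), IsAffineHom (D.map f) := fun {i j} f => inferInstance
  haveI : CompactSpace P.left := QuasiCompact.compactSpace_of_compactSpace P.hom
  haveI : QuasiSeparatedSpace P.left := quasiSeparatedSpace_of_quasiSeparated P.hom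
  let hX := IsPullback.of_hasPullback P.hom (c.π.app j)
  let t : MorLib.BC.diag D P.hom ⟶ (Functor.const (Over j)).obj R :=
    MorLib.BC.toStart D P.hom ≫ (Functor.const (Over j)).map C
  obtain ⟨k, v', hv1, hv2⟩ := Scheme.exists_π_app_comp_eq_of_locallyOfFinitePresentation
    (MorLib.BC.diag D P.hom) t m (MorLib.BC.cone D P.hom hX) (MorLib.BC.isLimitCone D P.hom hX hc) v (by
      ext l
      show MorLib.BC.proj D P.hom hX l ≫ pullback.fst _ _ ≫ C = v ≫ m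
      rw [MorLib.BC.proj_fst_assoc, hv])
  refine ⟨k.left, k.hom, v', hv2, ?_⟩
  refine Eq.trans ?_ hv1
  congr 1

include hc in
/-- Two morphisms from a stage which agree over the limit agree further on. -/
theorem exists_stage_eq {j : I} {P : Over (D.obj j)} [QuasiCompact P.hom] [QuasiSeparated P.hom] {Q R : Scheme.{u}}
    (m : Q ⟶ R) [LocallyOfFiniteType m] (a b : P.left ⟶ Q) (h₀ : a ≫ m = b ≫ m)
    (hab : pullback.fst P.hom (c.π.app j) ≫ a = pullback.fst P.hom (c.π.app j) ≫ b) :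
    ∃ (i : I) (f : i ⟶ j), pullback.fst P.hom (D.map f) ≫ a = pullback.fst P.hom (D.map f) ≫ b := by
  haveI : ∀ {i j : I} (f : i ⟶ j), IsAffineHom (D.map f) := fun {i j} f => inferInstance
  haveI : CompactSpace P.left := QuasiCompact.compactSpace_of_compactSpace P.hom
  haveI : QuasiSeparatedSpace P.left := quasiSeparatedSpace_of_quasiSeparated P.hom
  let hX := IsPullback.of_hasPullback P.hom (c.π.app j)
  let t : MorLib.BC.diag D P.hom ⟶ (Functor.const (Over j)).obj R :=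
    MorLib.BC.toStart D P.hom ≫ (Functor.const (Over j)).map (a ≫ m)
  let j₀ : Over j := Over.mk (𝟙 j)
  obtain ⟨k, hk, e⟩ := Scheme.exists_hom_comp_eq_comp_of_locallyOfFiniteType (MorLib.BC.diag D P.hom) t
    m (MorLib.BC.cone D P.hom hX) (MorLib.BC.isLimitCone D P.hom hX hc) (i := j₀)
    (pullback.fst _ _ ≫ a) (pullback.fst _ _ ≫ b)
    (by show pullback.fst _ _ ≫ a ≫ m = _; erw [Category.assoc]; rfl)
    (by show pullback.fst _ _ ≫ a ≫ m = _; erw [Category.assoc, h₀]; rfl)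
    (by
      show MorLib.BC.proj D P.hom hX j₀ ≫ _ = MorLib.BC.proj D P.hom hX j₀ ≫ _
      exact (MorLib.BC.proj_fst_assoc D P.hom hX j₀ _).trans
        (hab.trans (MorLib.BC.proj_fst_assoc D P.hom hX j₀ _).symm))
  refine ⟨k.left, k.hom, ?_⟩
  refine ((congrArg (· ≫ a) (MorLib.BC.map_fst D P.hom hk)).symm.trans (Category.assoc _ _ _)).trans (e.trans ?_)
  exact ((Category.assoc _ _ _).symm.trans (congrArg (· ≫ b) (MorLib.BC.map_fst D P.hom hk)))

/-- A point of the base change given by its value in `X`. -/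
def mkPt {π₀ : T ⟶ T₀} {Y : Scheme.{u}} (s : Y ⟶ T) (x : Y ⟶ X.left) (hx : x ≫ X.hom = s ≫ π₀) :
    Over.mk s ⟶ Red.bc π₀ X :=
  Over.homMk (pullback.lift x s hx) (pullback.lift_snd _ _ _)

theorem pt_mkPt {π₀ : T ⟶ T₀} {Y : Scheme.{u}} (s : Y ⟶ T) (x : Y ⟶ X.left) (hx : x ≫ X.hom = s ≫ π₀) :
    Ops.pt (mkPt s x hx) = x :=
  pullback.lift_fst _ _ _

theorem comp_mkPt {π₀ : T ⟶ T₀} {Y Y' : Scheme.{u}} (s : Y ⟶ T) (x : Y ⟶ X.left) (hx : x ≫ X.hom = s ≫ π₀)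
    (q : Y' ⟶ Y) (s' : Y' ⟶ T) (hq : q ≫ s = s') (x' : Y' ⟶ X.left) (ex : q ≫ x = x')
    (hx' : x' ≫ X.hom = s' ≫ π₀) :
    (Over.homMk q hq : Over.mk s' ⟶ Over.mk s) ≫ mkPt s x hx = mkPt s' x' hx' :=
  Ops.pt_ext (((Category.assoc _ _ _).trans (congrArg (q ≫ ·) (pt_mkPt s x hx))).trans
    (ex.trans (pt_mkPt s' x' hx').symm))

/-- The operations are those of the group `P` over the limit. -/
structure Agree {π₀ : T ⟶ T₀} [GrpObj (Red.bc π₀ X)] {h : T' ⟶ T₀} (o : Ops X h) (π : T ⟶ T') : Prop where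
  mul : ∀ {Y : Scheme.{u}} (s : Y ⟶ T) (x y : Y ⟶ X.left) (hx : x ≫ X.hom = s ≫ π₀) (hy : y ≫ X.hom = s ≫ π₀)
    (hx' : x ≫ X.hom = (s ≫ π) ≫ h) (hy' : y ≫ X.hom = (s ≫ π) ≫ h),
    o.mul (s ≫ π) x y hx' hy' = Ops.pt (mkPt s x hx * mkPt s y hy)
  inv : ∀ {Y : Scheme.{u}} (s : Y ⟶ T) (x : Y ⟶ X.left) (hx : x ≫ X.hom = s ≫ π₀)
    (hx' : x ≫ X.hom = (s ≫ π) ≫ h), o.inv (s ≫ π) x hx' = Ops.pt (mkPt s x hx)⁻¹
  one : ∀ {Y : Scheme.{u}} (s : Y ⟶ T), (s ≫ π) ≫ o.e = Ops.pt (1 : Over.mk s ⟶ Red.bc π₀ X)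

theorem Agree.isGrp {π₀ : T ⟶ T₀} [GrpObj (Red.bc π₀ X)] {h : T' ⟶ T₀} {o : Ops X h} {π : T ⟶ T'}
    (A : Agree (π₀ := π₀) o π) (hπ : π ≫ h = π₀) : (o.pull π).IsGrp := by
  intro Y s x y z hx hy hz
  have w : ∀ u : Y ⟶ X.left, u ≫ X.hom = s ≫ π ≫ h → u ≫ X.hom = s ≫ π₀ := fun u hu => by rw [hu, hπ]
  have emul : ∀ (a b : Y ⟶ X.left) (ha : a ≫ X.hom = s ≫ π ≫ h) (hb : b ≫ X.hom = s ≫ π ≫ h),
      (o.pull π).mul s a b ha hb = Ops.pt (mkPt s a (w a ha) * mkPt s b (w b hb)) := fun a b ha hb =>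
    (o.pull_mul π s a b ha hb).trans (A.mul s a b (w a ha) (w b hb) _ _)
  have einv : ∀ (a : Y ⟶ X.left) (ha : a ≫ X.hom = s ≫ π ≫ h),
      (o.pull π).inv s a ha = Ops.pt (mkPt s a (w a ha))⁻¹ := fun a ha =>
    (o.pull_inv π s a ha).trans (A.inv s a (w a ha) _)
  have eone : s ≫ (o.pull π).e = Ops.pt (1 : Over.mk s ⟶ Red.bc π₀ X) :=
    (Category.assoc _ _ _).symm.trans (A.one s)
  have back : ∀ (v : Y ⟶ X.left) (hv : v ≫ X.hom = s ≫ π ≫ h) (g : Over.mk s ⟶ Red.bc π₀ X),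
      v = Ops.pt g → mkPt s v (w v hv) = g := fun v hv g e => Ops.pt_ext ((pt_mkPt _ _ _).trans e)
  refine ⟨?_, ?_, ?_, ?_, ?_⟩
  · refine (emul _ _ _ _).trans (Eq.trans ?_ (emul _ _ _ _).symm)
    rw [back _ ((o.pull π).mul_w _ _ _ hx hy) _ (emul x y hx hy),
      back _ ((o.pull π).mul_w _ _ _ hy hz) _ (emul y z hy hz), _root_.mul_assoc]
  · rw [emul, back _ ((o.pull π).e_w _) _ eone, _root_.one_mul, pt_mkPt]
  · rw [emul, back _ ((o.pull π).e_w _) _ eone, _root_.mul_one, pt_mkPt]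
  · rw [emul, back _ ((o.pull π).inv_w _ _ hx) _ (einv x hx), inv_mul_cancel, eone]
  · rw [emul, back _ ((o.pull π).inv_w _ _ hx) _ (einv x hx), mul_inv_cancel, eone]

omit [IsCofiltered I] [∀ (i i' : I) (f : i ⟶ i'), IsAffineHom (D.map f)] [∀ i, CompactSpace (D.obj i)]
  [∀ i, QuasiSeparatedSpace (D.obj i)] in
theorem fst_comp_of_stage {i k k' : I} {Q : Over (D.obj i)} {Z : Scheme.{u}} (g' : k' ⟶ i) (g : k ⟶ i) (d : k ⟶ k')
    (hd : d ≫ g' = g) {v w : Q.left ⟶ Z}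
    (e : pullback.fst Q.hom (D.map g') ≫ v = pullback.fst Q.hom (D.map g') ≫ w) :
    pullback.fst Q.hom (D.map g) ≫ v = pullback.fst Q.hom (D.map g) ≫ w := by
  let l : pullback Q.hom (D.map g) ⟶ pullback Q.hom (D.map g') :=
    pullback.lift (pullback.fst _ _) (pullback.snd _ _ ≫ D.map d)
      (by rw [Category.assoc, ← D.map_comp, hd, pullback.condition])
  have hl : l ≫ pullback.fst _ _ = pullback.fst _ _ := pullback.lift_fst _ _ _
  exact (congrArg (· ≫ v) hl).symm.trans ((Category.assoc _ _ _).trans ((congrArg (l ≫ ·) e).trans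
    ((Category.assoc _ _ _).symm.trans (congrArg (· ≫ w) hl))))

include hc in
/-- The axioms of a group over the limit hold at a stage. -/
theorem exists_isGrp {j₀ i : I} (f : i ⟶ j₀) {X : Over (D.obj j₀)} [LocallyOfFiniteType X.hom] [QuasiCompact X.hom]
    [QuasiSeparated X.hom] (o : Ops X (D.map f)) (ho : (o.pull (c.π.app i)).IsGrp) :
    ∃ (k : I) (g : k ⟶ i), (o.pull (D.map g)).IsGrp := by
  let X₁ := Red.bc (D.map f) X
  let Q := X₁ ⊗ X₁ ⊗ X₁
  let x := Ops.pt (fst X₁ (X₁ ⊗ X₁))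
  let y := Ops.pt (snd X₁ (X₁ ⊗ X₁) ≫ fst X₁ X₁)
  let z := Ops.pt (snd X₁ (X₁ ⊗ X₁) ≫ snd X₁ X₁)
  haveI : QuasiCompact X₁.hom := inferInstanceAs (QuasiCompact (pullback.snd X.hom (D.map f)))
  haveI : QuasiSeparated X₁.hom := inferInstanceAs (QuasiSeparated (pullback.snd X.hom (D.map f)))
  haveI : QuasiCompact (X₁ ⊗ X₁).hom := inferInstanceAs (QuasiCompact (pullback.fst X₁.hom X₁.hom ≫ X₁.hom))
  haveI : QuasiSeparated (X₁ ⊗ X₁).hom := inferInstanceAs (QuasiSeparated (pullback.fst X₁.hom X₁.hom ≫ X₁.hom))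
  haveI : QuasiCompact Q.hom :=
    inferInstanceAs (QuasiCompact (pullback.fst X₁.hom (X₁ ⊗ X₁).hom ≫ X₁.hom))
  haveI : QuasiSeparated Q.hom :=
    inferInstanceAs (QuasiSeparated (pullback.fst X₁.hom (X₁ ⊗ X₁).hom ≫ X₁.hom))
  let hx := Ops.pt_w (fst X₁ (X₁ ⊗ X₁))
  let hy := Ops.pt_w (snd X₁ (X₁ ⊗ X₁) ≫ fst X₁ X₁)
  let hz := Ops.pt_w (snd X₁ (X₁ ⊗ X₁) ≫ snd X₁ X₁)
  let π := pullback.fst Q.hom (c.π.app i)
  let s := pullback.snd Q.hom (c.π.app i)
  have hs : π ≫ Q.hom = s ≫ c.π.app i := pullback.condition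
  let oπ := o.pull (c.π.app i)
  have hπ : ∀ v : Q.left ⟶ X.left, v ≫ X.hom = Q.hom ≫ D.map f →
      (π ≫ v) ≫ X.hom = s ≫ c.π.app i ≫ D.map f := fun v hv => by rw [Category.assoc, hv, reassoc_of% hs]
  have lmul : ∀ (a b : Q.left ⟶ X.left) (ha : a ≫ X.hom = Q.hom ≫ D.map f) (hb : b ≫ X.hom = Q.hom ≫ D.map f),
      π ≫ o.mul Q.hom a b ha hb = oπ.mul s (π ≫ a) (π ≫ b) (hπ a ha) (hπ b hb) := fun a b ha hb => by
    rw [Ops.comp_mul, Ops.pull_mul]
    exact o.mul_congr hs rfl rfl _ _ _ _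
  have linv : ∀ (a : Q.left ⟶ X.left) (ha : a ≫ X.hom = Q.hom ≫ D.map f),
      π ≫ o.inv Q.hom a ha = oπ.inv s (π ≫ a) (hπ a ha) := fun a ha => by
    rw [Ops.comp_inv, Ops.pull_inv]
    exact o.inv_congr hs rfl _ _
  have lone : π ≫ Q.hom ≫ o.e = s ≫ oπ.e := by
    rw [reassoc_of% hs]
    rfl
  have A := ho _ s (π ≫ x) (π ≫ y) (π ≫ z) (hπ _ hx) (hπ _ hy) (hπ _ hz)
  obtain ⟨k₁, g₁, E₁⟩ := exists_stage_eq D hc (P := Q) X.hom
    (o.mul Q.hom (o.mul Q.hom x y hx hy) z (o.mul_w _ _ _ _ _) hz)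
    (o.mul Q.hom x (o.mul Q.hom y z hy hz) hx (o.mul_w _ _ _ _ _)) ((o.mul_w _ _ _ _ _).trans (o.mul_w _ _ _ _ _).symm)
    (((lmul _ _ _ _).trans (oπ.mul_congr rfl (lmul x y hx hy) rfl _ _ _ _)).trans
      (A.assoc.trans ((oπ.mul_congr rfl rfl (lmul y z hy hz).symm _ _ _ _).trans (lmul _ _ _ _).symm)))
  obtain ⟨k₂, g₂, E₂⟩ := exists_stage_eq D hc (P := Q) X.hom
    (o.mul Q.hom (Q.hom ≫ o.e) x (o.e_w _) hx) x ((o.mul_w _ _ _ _ _).trans hx.symm)
    (((lmul _ _ _ _).trans (oπ.mul_congr rfl lone rfl _ _ _ _)).trans A.one_mul)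
  obtain ⟨k₃, g₃, E₃⟩ := exists_stage_eq D hc (P := Q) X.hom
    (o.mul Q.hom x (Q.hom ≫ o.e) hx (o.e_w _)) x ((o.mul_w _ _ _ _ _).trans hx.symm)
    (((lmul _ _ _ _).trans (oπ.mul_congr rfl rfl lone _ _ _ _)).trans A.mul_one)
  obtain ⟨k₄, g₄, E₄⟩ := exists_stage_eq D hc (P := Q) X.hom
    (o.mul Q.hom (o.inv Q.hom x hx) x (o.inv_w _ _ _) hx) (Q.hom ≫ o.e) ((o.mul_w _ _ _ _ _).trans (o.e_w _).symm)
    (((lmul _ _ _ _).trans (oπ.mul_congr rfl (linv x hx) rfl _ _ _ _)).trans (A.inv_mul.trans lone.symm))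
  obtain ⟨k₅, g₅, E₅⟩ := exists_stage_eq D hc (P := Q) X.hom
    (o.mul Q.hom x (o.inv Q.hom x hx) hx (o.inv_w _ _ _)) (Q.hom ≫ o.e) ((o.mul_w _ _ _ _ _).trans (o.e_w _).symm)
    (((lmul _ _ _ _).trans (oπ.mul_congr rfl rfl (linv x hx) _ _ _ _)).trans (A.mul_inv.trans lone.symm))
  obtain ⟨k₁₂, g₁₂, a₁, a₂, ea₁, ea₂⟩ := exists_common g₁ g₂
  obtain ⟨k₃₄, g₃₄, a₃, a₄, ea₃, ea₄⟩ := exists_common g₃ g₄
  obtain ⟨k₁₄, g₁₄, b₁, b₂, eb₁, eb₂⟩ := exists_common g₁₂ g₃₄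
  obtain ⟨k, g, d₁, d₂, ed₁, ed₂⟩ := exists_common g₁₄ g₅
  have F₁ := fst_comp_of_stage D g₁ g (d₁ ≫ b₁ ≫ a₁) (by rw [Category.assoc, Category.assoc, ea₁, eb₁, ed₁]) E₁
  have F₂ := fst_comp_of_stage D g₂ g (d₁ ≫ b₁ ≫ a₂) (by rw [Category.assoc, Category.assoc, ea₂, eb₁, ed₁]) E₂
  have F₃ := fst_comp_of_stage D g₃ g (d₁ ≫ b₂ ≫ a₃) (by rw [Category.assoc, Category.assoc, ea₃, eb₂, ed₁]) E₃
  have F₄ := fst_comp_of_stage D g₄ g (d₁ ≫ b₂ ≫ a₄) (by rw [Category.assoc, Category.assoc, ea₄, eb₂, ed₁]) E₄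
  have F₅ := fst_comp_of_stage D g₅ g d₂ ed₂ E₅
  refine ⟨k, g, fun Y t u v w hu hv hw => ?_⟩
  let o' := o.pull (D.map g)
  let P₁ : ∀ (u : Y ⟶ X.left), u ≫ X.hom = t ≫ D.map g ≫ D.map f → (Over.mk (t ≫ D.map g) ⟶ X₁) := fun u hu =>
    mkPt (t ≫ D.map g) u (hu.trans (Category.assoc _ _ _).symm)
  let q : Over.mk (t ≫ D.map g) ⟶ Q := lift (P₁ u hu) (lift (P₁ v hv) (P₁ w hw))
  have hq : q.left ≫ Q.hom = t ≫ D.map g := Over.w q
  let r : Y ⟶ pullback Q.hom (D.map g) := pullback.lift q.left t hq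
  have hr : r ≫ pullback.fst Q.hom (D.map g) = q.left := pullback.lift_fst _ _ _
  have ex : q.left ≫ x = u := by
    show q.left ≫ (fst X₁ (X₁ ⊗ X₁)).left ≫ _ = _
    rw [← Category.assoc, ← Over.comp_left, lift_fst]
    exact pt_mkPt _ _ _
  have ey : q.left ≫ y = v := by
    show q.left ≫ (snd X₁ (X₁ ⊗ X₁) ≫ fst X₁ X₁).left ≫ _ = _
    rw [← Category.assoc, ← Over.comp_left, ← Category.assoc, lift_snd, lift_fst]
    exact pt_mkPt _ _ _
  have ez : q.left ≫ z = w := by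
    show q.left ≫ (snd X₁ (X₁ ⊗ X₁) ≫ snd X₁ X₁).left ≫ _ = _
    rw [← Category.assoc, ← Over.comp_left, ← Category.assoc, lift_snd, lift_snd]
    exact pt_mkPt _ _ _
  have hqe : q.left ≫ Q.hom ≫ o.e = t ≫ o'.e := by
    rw [reassoc_of% hq]
    rfl
  have get : ∀ {v' w' : Q.left ⟶ X.left}, pullback.fst Q.hom (D.map g) ≫ v' = pullback.fst Q.hom (D.map g) ≫ w' →
      q.left ≫ v' = q.left ≫ w' := fun e => by rw [← hr, Category.assoc, Category.assoc, e]
  have qmul : ∀ (a b : Q.left ⟶ X.left) (ha : a ≫ X.hom = Q.hom ≫ D.map f) (hb : b ≫ X.hom = Q.hom ≫ D.map f)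
      (a' b' : Y ⟶ X.left) (ha' : a' ≫ X.hom = t ≫ D.map g ≫ D.map f) (hb' : b' ≫ X.hom = t ≫ D.map g ≫ D.map f),
      q.left ≫ a = a' → q.left ≫ b = b' → q.left ≫ o.mul Q.hom a b ha hb = o'.mul t a' b' ha' hb' := by
    intro a b ha hb a' b' ha' hb' e1 e2
    rw [Ops.comp_mul, Ops.pull_mul]
    exact o.mul_congr hq e1 e2 _ _ _ _
  have qinv : q.left ≫ o.inv Q.hom x hx = o'.inv t u hu := by
    rw [Ops.comp_inv, Ops.pull_inv]
    exact o.inv_congr hq ex _ _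
  refine ⟨?_, ?_, ?_, ?_, ?_⟩
  · rw [← qmul _ z (o.mul_w _ _ _ _ _) hz _ w (o'.mul_w _ _ _ hu hv) hw (qmul x y hx hy u v hu hv ex ey) ez,
      ← qmul x _ hx (o.mul_w _ _ _ _ _) u _ hu (o'.mul_w _ _ _ hv hw) ex (qmul y z hy hz v w hv hw ey ez)]
    exact get F₁
  · rw [← qmul _ x (o.e_w _) hx _ u (o'.e_w _) hu hqe ex]
    exact (get F₂).trans ex
  · rw [← qmul x _ hx (o.e_w _) u _ hu (o'.e_w _) ex hqe]
    exact (get F₃).trans ex
  · rw [← qmul _ x (o.inv_w _ _ _) hx _ u (o'.inv_w _ _ hu) hu qinv ex]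
    exact (get F₄).trans hqe
  · rw [← qmul x _ hx (o.inv_w _ _ _) u _ hu (o'.inv_w _ _ hu) ex qinv]
    exact (get F₅).trans hqe

section Limit

variable {j₀ : I} {X : Over (D.obj j₀)} [GrpObj (Red.bc (c.π.app j₀) X)]

/-- The universal product over the limit. -/
def vMul : pullback (X ⊗ X).hom (c.π.app j₀) ⟶ X.left :=
  Ops.pt (mkPt (pullback.snd _ _) (pullback.fst (X ⊗ X).hom _ ≫ pullback.fst X.hom X.hom)
      (show _ = pullback.snd (X ⊗ X).hom (c.π.app j₀) ≫ c.π.app j₀ by rw [Category.assoc]; exact pullback.condition) *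
    mkPt (pullback.snd _ _) (pullback.fst (X ⊗ X).hom _ ≫ pullback.snd X.hom X.hom)
      (show _ = pullback.snd (X ⊗ X).hom (c.π.app j₀) ≫ c.π.app j₀ by
        rw [Category.assoc, ← pullback.condition (f := X.hom) (g := X.hom)]; exact pullback.condition))

/-- The universal inverse over the limit. -/
def vInv : pullback X.hom (c.π.app j₀) ⟶ X.left :=
  Ops.pt (mkPt (pullback.snd X.hom (c.π.app j₀)) (pullback.fst X.hom _) pullback.condition)⁻¹

/-- The unit over the limit. -/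
def vOne : pullback (Over.mk (𝟙 (D.obj j₀))).hom (c.π.app j₀) ⟶ X.left :=
  Ops.pt (1 : Over.mk (pullback.snd (Over.mk (𝟙 (D.obj j₀))).hom (c.π.app j₀)) ⟶ Red.bc (c.π.app j₀) X)

include hc in
theorem exists_ops [LocallyOfFinitePresentation X.hom] [QuasiCompact X.hom] [QuasiSeparated X.hom] :
    ∃ (i : I) (f : i ⟶ j₀) (o : Ops X (D.map f)), Agree (π₀ := c.π.app j₀) o (c.π.app i) := by
  haveI : QuasiCompact (X ⊗ X).hom := inferInstanceAs (QuasiCompact (pullback.fst X.hom X.hom ≫ X.hom))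
  haveI : QuasiSeparated (X ⊗ X).hom := inferInstanceAs (QuasiSeparated (pullback.fst X.hom X.hom ≫ X.hom))
  haveI : QuasiCompact (Over.mk (𝟙 (D.obj j₀))).hom := inferInstanceAs (QuasiCompact (𝟙 (D.obj j₀)))
  haveI : QuasiSeparated (Over.mk (𝟙 (D.obj j₀))).hom := inferInstanceAs (QuasiSeparated (𝟙 (D.obj j₀)))
  obtain ⟨i₁, f₁, vm', hm', em'⟩ := exists_stage_hom D hc X.hom (X ⊗ X).hom (vMul D)
    ((Ops.pt_w _).trans pullback.condition.symm)
  obtain ⟨i₂, f₂, vi', hi', ei'⟩ := exists_stage_hom D hc X.hom X.hom (vInv D)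
    ((Ops.pt_w _).trans pullback.condition.symm)
  obtain ⟨i₃, f₃, ve', he', ee'⟩ := exists_stage_hom D hc X.hom (Over.mk (𝟙 (D.obj j₀))).hom (vOne D (X := X))
    ((Ops.pt_w _).trans pullback.condition.symm)
  obtain ⟨i₁₂, f₁₂, a, b, ea, eb⟩ := exists_common f₁ f₂
  obtain ⟨i, f, p, r, ep, er⟩ := exists_common f₁₂ f₃
  have w₁ : D.map (p ≫ a) ≫ D.map f₁ = D.map f := by rw [← D.map_comp, Category.assoc, ea, ep]
  have w₂ : D.map (p ≫ b) ≫ D.map f₂ = D.map f := by rw [← D.map_comp, Category.assoc, eb, ep]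
  have w₃ : D.map r ≫ D.map f₃ = D.map f := by rw [← D.map_comp, er]
  let l₁ : pullback (X ⊗ X).hom (D.map f) ⟶ pullback (X ⊗ X).hom (D.map f₁) :=
    pullback.lift (pullback.fst _ _) (pullback.snd _ _ ≫ D.map (p ≫ a)) (by rw [Category.assoc, w₁, pullback.condition])
  let l₂ : pullback X.hom (D.map f) ⟶ pullback X.hom (D.map f₂) :=
    pullback.lift (pullback.fst _ _) (pullback.snd _ _ ≫ D.map (p ≫ b)) (by rw [Category.assoc, w₂, pullback.condition])
  let l₃ : D.obj i ⟶ pullback (Over.mk (𝟙 (D.obj j₀))).hom (D.map f₃) :=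
    pullback.lift (f := (Over.mk (𝟙 (D.obj j₀))).hom) (D.map f) (D.map r)
      (by rw [w₃]; exact Category.comp_id _)
  have k₁ : l₁ ≫ pullback.fst _ _ = pullback.fst _ _ := pullback.lift_fst _ _ _
  have k₁' : l₁ ≫ pullback.snd _ _ = pullback.snd _ _ ≫ D.map (p ≫ a) := pullback.lift_snd _ _ _
  have k₂ : l₂ ≫ pullback.fst _ _ = pullback.fst _ _ := pullback.lift_fst _ _ _
  have k₂' : l₂ ≫ pullback.snd _ _ = pullback.snd _ _ ≫ D.map (p ≫ b) := pullback.lift_snd _ _ _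
  have k₃ : l₃ ≫ pullback.fst _ _ = D.map f := pullback.lift_fst _ _ _
  have k₃' : l₃ ≫ pullback.snd _ _ = D.map r := pullback.lift_snd _ _ _
  let o : Ops X (D.map f) :=
    { m := l₁ ≫ vm'
      hm := by rw [Category.assoc, hm', reassoc_of% k₁]
      i := l₂ ≫ vi'
      hi := by rw [Category.assoc, hi', reassoc_of% k₂]
      e := l₃ ≫ ve'
      he := by rw [Category.assoc, he', reassoc_of% k₃]; exact Category.comp_id _ }
  refine ⟨i, f, o, ⟨fun {Y} s x y hx hy hx' hy' => ?_, fun {Y} s x hx hx' => ?_, fun {Y} s => ?_⟩⟩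
  · let L : Y ⟶ pullback (X ⊗ X).hom (c.π.app j₀) :=
      pullback.lift (pullback.lift x y (hx.trans hy.symm)) s ((pullback.lift_fst_assoc _ _ _ _).trans hx)
    have l1 : L ≫ pullback.fst _ _ = pullback.lift x y (hx.trans hy.symm) := pullback.lift_fst _ _ _
    have hL : L ≫ pullback.snd _ _ = s := pullback.lift_snd _ _ _
    have h1 : o.mul (s ≫ c.π.app i) x y hx' hy' = L ≫ vMul D := by
      rw [← em', Ops.mul, ← Category.assoc, ← Category.assoc]
      congr 1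
      refine pullback.hom_ext ?_ ?_
      · rw [Category.assoc, Category.assoc, k₁, pullback.lift_fst, pullback.lift_fst, l1]
      · rw [Category.assoc, Category.assoc, k₁', pullback.lift_snd, pullback.lift_snd_assoc, reassoc_of% hL,
          Category.assoc, c.w]
    have hxL : L ≫ pullback.fst (X ⊗ X).hom (c.π.app j₀) ≫ pullback.fst X.hom X.hom = x := by
      rw [← Category.assoc, l1, pullback.lift_fst]
    have hyL : L ≫ pullback.fst (X ⊗ X).hom (c.π.app j₀) ≫ pullback.snd X.hom X.hom = y := by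
      rw [← Category.assoc, l1, pullback.lift_snd]
    rw [h1, ← comp_mkPt (pullback.snd _ _) _ (by rw [Category.assoc]; exact pullback.condition) L s hL x hxL hx,
      ← comp_mkPt (pullback.snd _ _) _ (by
        rw [Category.assoc, ← pullback.condition (f := X.hom) (g := X.hom)]; exact pullback.condition) L s hL y hyL hy,
      ← MonObj.comp_mul]
    exact (Category.assoc _ _ _).symm
  · let L : Y ⟶ pullback X.hom (c.π.app j₀) := pullback.lift x s hx
    have l1 : L ≫ pullback.fst _ _ = x := pullback.lift_fst _ _ _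
    have hL : L ≫ pullback.snd _ _ = s := pullback.lift_snd _ _ _
    have h1 : o.inv (s ≫ c.π.app i) x hx' = L ≫ vInv D := by
      rw [← ei', Ops.inv, ← Category.assoc, ← Category.assoc]
      congr 1
      refine pullback.hom_ext ?_ ?_
      · rw [Category.assoc, Category.assoc, k₂, pullback.lift_fst, pullback.lift_fst, l1]
      · rw [Category.assoc, Category.assoc, k₂', pullback.lift_snd, pullback.lift_snd_assoc, reassoc_of% hL,
          Category.assoc, c.w]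
    rw [h1, ← comp_mkPt (pullback.snd _ _) _ pullback.condition L s hL x l1 hx, ← GrpObj.comp_inv]
    exact (Category.assoc _ _ _).symm
  · let L : Y ⟶ pullback (Over.mk (𝟙 (D.obj j₀))).hom (c.π.app j₀) :=
      pullback.lift (f := (Over.mk (𝟙 (D.obj j₀))).hom) (s ≫ c.π.app j₀) s (Category.comp_id _)
    have l1 : L ≫ pullback.fst _ _ = s ≫ c.π.app j₀ := pullback.lift_fst _ _ _
    have hL : L ≫ pullback.snd _ _ = s := pullback.lift_snd _ _ _
    have h1 : (s ≫ c.π.app i) ≫ o.e = L ≫ vOne D (X := X) := by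
      rw [← ee', ← Category.assoc, ← Category.assoc]
      congr 1
      refine pullback.hom_ext ?_ ?_
      · rw [Category.assoc, Category.assoc, k₃, c.w]
        exact ((Category.assoc _ _ _).trans ((congrArg (L ≫ ·) (pullback.lift_fst _ _ _)).trans l1)).symm
      · rw [Category.assoc, Category.assoc, k₃', c.w]
        exact ((Category.assoc _ _ _).trans ((congrArg (L ≫ ·) (pullback.lift_snd _ _ _)).trans
          ((reassoc_of% hL) _))).symm
    rw [h1, ← MonObj.comp_one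
      (Over.homMk L hL : Over.mk s ⟶ Over.mk (pullback.snd (Over.mk (𝟙 (D.obj j₀))).hom (c.π.app j₀)))]
    exact (Category.assoc _ _ _).symm

end Limit

include hc in
/-- A group over the limit comes from a stage. -/
theorem exists_grp {j₀ : I} (X : Over (D.obj j₀)) [LocallyOfFinitePresentation X.hom] [QuasiCompact X.hom]
    [QuasiSeparated X.hom] (G : Over c.pt) [GrpObj G] (e₀ : G ≅ Red.bc (c.π.app j₀) X) :
    ∃ (i : I) (f : i ⟶ j₀) (str : GrpObj (Red.bc (D.map f) X)) (e : G ≅ Red.bc (c.π.app i) (Red.bc (D.map f) X)),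
      IsMonHom e.hom := by
  letI : GrpObj (Red.bc (c.π.app j₀) X) := GrpObj.ofIso e₀
  haveI : IsMonHom e₀.hom := ⟨rfl, by
    show μ[G] ≫ e₀.hom = (e₀.hom ⊗ₘ e₀.hom) ≫ (e₀.inv ⊗ₘ e₀.inv) ≫ μ[G] ≫ e₀.hom
    rw [MonoidalCategory.tensorHom_comp_tensorHom_assoc, Iso.hom_inv_id, MonoidalCategory.id_tensorHom_id, Category.id_comp]⟩
  obtain ⟨i, f, o, hA⟩ := exists_ops D hc (X := X)
  obtain ⟨k, g, ho'⟩ := exists_isGrp D hc f o (hA.isGrp (c.w f))
  have efg : D.map g ≫ D.map f = D.map (g ≫ f) := (D.map_comp g f).symm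
  refine ⟨k, g ≫ f, ?_⟩
  rw [← efg]
  letI str := (o.pull (D.map g)).grpObj ho'
  have hk : c.π.app k ≫ D.map g ≫ D.map f = c.π.app j₀ := by rw [efg, c.w]
  have hki : c.π.app k ≫ D.map g = c.π.app i := c.w g
  let e : G ≅ Red.bc (c.π.app k) (Red.bc (D.map g ≫ D.map f) X) := e₀ ≪≫ (cmp hk X).symm
  refine ⟨str, e, ?_⟩
  have hE : ∀ {Z : Over c.pt} (w : Z ⟶ G), Ops.pt (DSPtsLib.theta (c.π.app k) (w ≫ e.hom)) = Ops.pt (w ≫ e₀.hom) := by
    intro Z w
    refine Eq.trans ?_ ((congrArg (fun m => w.left ≫ e₀.hom.left ≫ m) (cmp_inv_fst hk X)).trans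
      (Category.assoc _ _ _).symm)
    show (((w.left ≫ e₀.hom.left ≫ (cmp hk X).inv.left) ≫ pullback.fst _ _) ≫ pullback.fst _ _) = _
    simp only [Category.assoc]
  have hmul : ∀ {Z : Over c.pt} (w w' : Z ⟶ G), (w * w') ≫ e.hom = (w ≫ e.hom) * (w' ≫ e.hom) := by
    intro Z w w'
    refine (DSPtsLib.theta_bijective _).1 (Ops.pt_ext ?_)
    have hp : ∀ v : Z ⟶ G, Ops.pt (v ≫ e₀.hom) ≫ X.hom = Z.hom ≫ c.π.app j₀ := fun v => Ops.pt_w _
    have h1 : ∀ v : Z ⟶ G, mkPt Z.hom _ (hp v) = v ≫ e₀.hom := fun v => Ops.pt_ext (pt_mkPt _ _ _)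
    have hcomp : ∀ v : Z ⟶ G, Ops.pt (v ≫ e₀.hom) ≫ X.hom = (Z.hom ≫ c.π.app i) ≫ D.map f := fun v => by
      rw [hp, Category.assoc, c.w]
    rw [hE, DSPtsLib.theta_mul, (o.pull (D.map g)).pt_mul ho', MonObj.mul_comp]
    refine Eq.trans ?_ (Eq.symm ((Ops.pull_mul o (D.map g) _ _ _ _ _).trans (o.mul_congr
      (s' := Z.hom ≫ c.π.app i) ?_ (hE w) (hE w') _ _ (hcomp w) (hcomp w'))))
    · rw [hA.mul Z.hom _ _ (hp w) (hp w'), h1, h1]
    · exact (Category.assoc _ _ _).trans (congrArg (_ ≫ ·) hki)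
  constructor
  · have h1 := hmul (1 : 𝟙_ _ ⟶ G) 1
    rw [_root_.one_mul, left_eq_mul] at h1
    rwa [Hom.one_def, Hom.one_def, toUnit_unique (toUnit _) (𝟙 _), Category.id_comp, Category.id_comp] at h1
  · have h1 := hmul (fst G G) (snd G G)
    rw [Hom.mul_def, Hom.mul_def, lift_fst_snd, Category.id_comp] at h1
    rw [h1, ← lift_map, lift_fst_snd, Category.id_comp]

end Groth.Agent.GrpLimLib
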