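import Groth.Agent.GrpLimLib.Basic
import Groth.Prelude.Def_AlgGrp

/-!
# Normal and central monomorphisms over a limit
-/

open CategoryTheory CategoryTheory.Limits MonoidalCategory CartesianMonoidalCategory MonObj GrpObj AlgebraicGeometry

universe u

noncomputable section

namespace Groth.Agent.GrpLimLib

variable {S T : Scheme.{u}} {G H : Over S} [GrpObj G] [GrpObj H] (u : H ⟶ G) (h : T ⟶ S)

/-- The conjugate of the universal point of `H` by that of `G`. -/
abbrev conjMor : G ⊗ H ⟶ G := fst G H * (snd G H ≫ u) * (fst G H)⁻¹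

/-- The kernel pair, as an object over `S`. -/
abbrev kerPair : Over S := Over.mk (pullback.fst u.left u.left ≫ H.hom)

/-- Its first projection. -/
abbrev kpFst : kerPair u ⟶ H := Over.homMk (pullback.fst u.left u.left) rfl

/-- Its second projection. -/
abbrev kpSnd : kerPair u ⟶ H := Over.homMk (pullback.snd u.left u.left) (by
  show pullback.snd u.left u.left ≫ H.hom = pullback.fst u.left u.left ≫ H.hom
  rw [← Over.w u, ← pullback.condition_assoc])

omit [GrpObj G] [GrpObj H] in
theorem map_eq_of_comp {T' : Scheme.{u}} (q : T' ⟶ T) {P Q : Over S} {a b : P ⟶ Q}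
    (e : (Over.pullback h).map a = (Over.pullback h).map b) :
    (Over.pullback (q ≫ h)).map a = (Over.pullback (q ≫ h)).map b := by
  refine hom_ext₁ ?_
  rw [map_left_fst, map_left_fst]
  have e' := congrArg (fun m => m.left ≫ pullback.fst Q.hom h) e
  simp only [map_left_fst] at e'
  let l : pullback P.hom (q ≫ h) ⟶ pullback P.hom h :=
    pullback.lift (pullback.fst _ _) (pullback.snd _ _ ≫ q) (by rw [Category.assoc, pullback.condition])
  have h1 : l ≫ pullback.fst P.hom h = pullback.fst P.hom (q ≫ h) := pullback.lift_fst _ _ _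
  rw [← h1, Category.assoc, Category.assoc]
  exact congrArg (l ≫ ·) e'

omit [GrpObj G] [GrpObj H] in
theorem mono_map_iff :
    Mono ((Over.pullback h).map u) ↔ (Over.pullback h).map (kpFst u) = (Over.pullback h).map (kpSnd u) := by
  constructor
  · intro hm
    rw [← cancel_mono ((Over.pullback h).map u), ← Functor.map_comp, ← Functor.map_comp]
    exact congrArg _ (Over.OverMorphism.ext pullback.condition)
  · refine fun e => ⟨fun {Z} x y hxy => hom_ext₁ ?_⟩
    have h1 := congrArg (fun m => m.left ≫ pullback.fst G.hom h) hxy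
    simp only [Over.comp_left, Category.assoc, map_left_fst] at h1
    let w := pullback.lift (x.left ≫ pullback.fst H.hom h) (y.left ≫ pullback.fst H.hom h)
      (by rw [Category.assoc, Category.assoc]; exact h1)
    let z : Z ⟶ Red.bc h (kerPair u) := Over.homMk (pullback.lift w Z.hom (by
      show w ≫ pullback.fst u.left u.left ≫ H.hom = Z.hom ≫ h
      rw [pullback.lift_fst_assoc, Category.assoc, pullback.condition, ← Category.assoc]
      exact congrArg (· ≫ h) (Over.w x))) (pullback.lift_snd _ _ _)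
    have h2 := congrArg (fun m => z.left ≫ m.left ≫ pullback.fst H.hom h) e
    simp only [map_left_fst] at h2
    have hz : z.left ≫ pullback.fst (kerPair u).hom h = w := pullback.lift_fst _ _ _
    rw [reassoc_of% hz, reassoc_of% hz] at h2
    exact ((pullback.lift_fst _ _ _).symm.trans h2).trans (pullback.lift_snd _ _ _)

/-- A point of the tensor product of the base changes. -/
def pairPt {X : Over T} (g : X ⟶ Red.bc h G) (n : X ⟶ Red.bc h H) : X ⟶ Red.bc h (G ⊗ H) :=
  lift g n ≫ Functor.LaxMonoidal.μ (Over.pullback h) G H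

omit [GrpObj G] [GrpObj H] in
theorem pairPt_fst {X : Over T} (g : X ⟶ Red.bc h G) (n : X ⟶ Red.bc h H) :
    pairPt h g n ≫ (Over.pullback h).map (fst G H) = g := by
  rw [pairPt, Category.assoc, Functor.Monoidal.μ_fst, lift_fst]

omit [GrpObj G] [GrpObj H] in
theorem pairPt_snd {X : Over T} (g : X ⟶ Red.bc h G) (n : X ⟶ Red.bc h H) :
    pairPt h g n ≫ (Over.pullback h).map (snd G H) = n := by
  rw [pairPt, Category.assoc, Functor.Monoidal.μ_snd, lift_snd]

theorem central_map_iff :
    (∀ (X : Over T) (g : X ⟶ Red.bc h G) (n : X ⟶ Red.bc h H),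
      g * (n ≫ (Over.pullback h).map u) = (n ≫ (Over.pullback h).map u) * g) ↔
    (Over.pullback h).map (fst G H * (snd G H ≫ u)) = (Over.pullback h).map ((snd G H ≫ u) * fst G H) := by
  constructor
  · intro hc
    rw [Functor.map_mul, Functor.map_mul, Functor.map_comp]
    exact hc _ ((Over.pullback h).map (fst G H)) ((Over.pullback h).map (snd G H))
  · intro e X g n
    have h1 := congrArg (pairPt h g n ≫ ·) e
    simp only [Functor.map_mul, Functor.map_comp, MonObj.comp_mul] at h1
    rw [pairPt_fst, reassoc_of% (pairPt_snd h g n)] at h1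
    exact h1

theorem map_inv' {X : Over S} (a : X ⟶ G) : (Over.pullback h).map a⁻¹ = ((Over.pullback h).map a)⁻¹ := by
  refine eq_inv_of_mul_eq_one_left ?_
  rw [← Functor.map_mul, inv_mul_cancel]
  have := Functor.map_mul (Over.pullback h) (1 : X ⟶ G) 1
  rw [_root_.one_mul] at this
  exact left_eq_mul.mp this

/-- The condition that the conjugation factors through `H` over `h`. -/
def Lifts : Prop :=
  ∃ v : pullback (G ⊗ H).hom h ⟶ H.left, v ≫ u.left = pullback.fst (G ⊗ H).hom h ≫ (conjMor u).left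

theorem normal_map_iff : AlgGrp.IsNormalHom ((Over.pullback h).map u) ↔ Lifts u h := by
  constructor
  · intro hn
    obtain ⟨n', hn'⟩ := hn _ ((Over.pullback h).map (fst G H)) ((Over.pullback h).map (snd G H))
    rw [← Functor.map_comp, ← Functor.map_mul, ← map_inv', ← Functor.map_mul] at hn'
    refine ⟨n'.left ≫ pullback.fst H.hom h, ?_⟩
    have h1 := congrArg (fun m => m.left ≫ pullback.fst G.hom h) hn'
    simp only [Over.comp_left, Category.assoc, map_left_fst] at h1
    rw [Category.assoc]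
    exact h1.symm
  · rintro ⟨v, hv⟩ X g n
    let w : Red.bc h (G ⊗ H) ⟶ Red.bc h H := Over.homMk (pullback.lift v (pullback.snd _ _) (by
      rw [← Over.w u, ← Category.assoc, hv, Category.assoc]
      refine Eq.trans ?_ pullback.condition
      exact congrArg (_ ≫ ·) (Over.w (conjMor u)))) (pullback.lift_snd _ _ _)
    have hw : w ≫ (Over.pullback h).map u = (Over.pullback h).map (conjMor u) := by
      refine hom_ext₁ ?_
      rw [Over.comp_left, Category.assoc, map_left_fst, map_left_fst, ← hv, ← Category.assoc]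
      exact congrArg (· ≫ u.left) (pullback.lift_fst _ _ _)
    refine ⟨pairPt h g n ≫ w, ?_⟩
    rw [Category.assoc, hw, Functor.map_mul, Functor.map_mul, map_inv', Functor.map_comp, MonObj.comp_mul,
      MonObj.comp_mul, GrpObj.comp_inv, pairPt_fst, reassoc_of% (pairPt_snd h g n)]

theorem Lifts.comp {T' : Scheme.{u}} (q : T' ⟶ T) (hl : Lifts u h) : Lifts u (q ≫ h) := by
  obtain ⟨v, hv⟩ := hl
  let l : pullback (G ⊗ H).hom (q ≫ h) ⟶ pullback (G ⊗ H).hom h :=
    pullback.lift (pullback.fst _ _) (pullback.snd _ _ ≫ q) (by rw [Category.assoc, pullback.condition])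
  refine ⟨l ≫ v, ?_⟩
  rw [Category.assoc, hv, ← Category.assoc]
  exact congrArg (· ≫ _) (pullback.lift_fst _ _ _)

variable {I : Type u} [SmallCategory I] [IsCofiltered I] (D : I ⥤ Scheme.{u}) {c : Cone D} (hc : IsLimit c)
  [∀ (i i' : I) (f : i ⟶ i'), IsAffineHom (D.map f)] [∀ i, CompactSpace (D.obj i)]
  [∀ i, QuasiSeparatedSpace (D.obj i)]

include hc in
/-- A lift over the limit comes from a stage. -/
theorem exists_lifts {j : I} {P : Over (D.obj j)} [QuasiCompact P.hom] [QuasiSeparated P.hom] {Q R : Scheme.{u}}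
    (m : Q ⟶ R) [LocallyOfFinitePresentation m] (C : P.left ⟶ R) (v : pullback P.hom (c.π.app j) ⟶ Q)
    (hv : v ≫ m = pullback.fst P.hom (c.π.app j) ≫ C) :
    ∃ (i : I) (f : i ⟶ j) (v' : pullback P.hom (D.map f) ⟶ Q), v' ≫ m = pullback.fst P.hom (D.map f) ≫ C := by
  haveI : ∀ {i j : I} (f : i ⟶ j), IsAffineHom (D.map f) := fun {i j} f => inferInstance
  haveI : CompactSpace P.left := QuasiCompact.compactSpace_of_compactSpace P.hom
  haveI : QuasiSeparatedSpace P.left := quasiSeparatedSpace_of_quasiSeparated P.hom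
  let hX := IsPullback.of_hasPullback P.hom (c.π.app j)
  let t : MorLib.BC.diag D P.hom ⟶ (Functor.const (Over j)).obj R :=
    MorLib.BC.toStart D P.hom ≫ (Functor.const (Over j)).map C
  obtain ⟨k, v', hv1, hv2⟩ := Scheme.exists_π_app_comp_eq_of_locallyOfFinitePresentation
    (MorLib.BC.diag D P.hom) t m (MorLib.BC.cone D P.hom hX) (MorLib.BC.isLimitCone D P.hom hX hc) v (by
      ext l
      show MorLib.BC.proj D P.hom hX l ≫ pullback.fst _ _ ≫ C = v ≫ m
      rw [MorLib.BC.proj_fst_assoc, hv])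
  exact ⟨k.left, k.hom, v', hv2⟩

omit [∀ (i i' : I) (f : i ⟶ i'), IsAffineHom (D.map f)] [∀ i, CompactSpace (D.obj i)]
  [∀ i, QuasiSeparatedSpace (D.obj i)] in
theorem exists_common {j i₁ i₂ : I} (f₁ : i₁ ⟶ j) (f₂ : i₂ ⟶ j) :
    ∃ (i : I) (f : i ⟶ j) (g₁ : i ⟶ i₁) (g₂ : i ⟶ i₂), g₁ ≫ f₁ = f ∧ g₂ ≫ f₂ = f := by
  obtain ⟨a, b, e⟩ := IsCofiltered.cospan f₁ f₂
  obtain ⟨b', e'⟩ := e
  exact ⟨a, b ≫ f₁, b, b', rfl, e'.symm⟩

end Groth.Agent.GrpLimLib
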