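import Groth.Agent.GrpLimLib.NormalMono

/-!
# Subgroup objects cut out by a monomorphism, and their descent along limits
-/

open CategoryTheory CategoryTheory.Limits MonoidalCategory CartesianMonoidalCategory MonObj GrpObj AlgebraicGeometry

universe u v w

set_option linter.style.haveILetI false

noncomputable section

namespace Groth.Agent.GrpLimLib.Subgroup

section Abstract

variable {C : Type w} [Category.{v} C] [CartesianMonoidalCategory C] {H G : C} [GrpObj G] (j : H ⟶ G) [Mono j]

/-- A monomorphism stable under the group operations carries a group structure. -/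
theorem exists_grpObj (m : H ⊗ H ⟶ H) (hm : m ≫ j = (fst H H ≫ j) * (snd H H ≫ j))
    (e : 𝟙_ C ⟶ H) (he : e ≫ j = (1 : 𝟙_ C ⟶ G)) (n : H ⟶ H) (hn : n ≫ j = j⁻¹) :
    ∃ _ : GrpObj H, IsMonHom j := by
  letI : MonObj H :=
    { one := e
      mul := m
      one_mul := by
        rw [← cancel_mono j, Category.assoc, hm, MonObj.comp_mul]
        simp only [← Category.assoc, whiskerRight_fst, whiskerRight_snd, leftUnitor_hom]
        rw [Category.assoc, he, MonObj.comp_one, _root_.one_mul]
      mul_one := by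
        rw [← cancel_mono j, Category.assoc, hm, MonObj.comp_mul]
        simp only [← Category.assoc, whiskerLeft_fst, whiskerLeft_snd, rightUnitor_hom]
        rw [Category.assoc (snd H (𝟙_ C)) e, he, MonObj.comp_one, _root_.mul_one]
      mul_assoc := by
        rw [← cancel_mono j]
        simp only [Category.assoc, hm, MonObj.comp_mul, whiskerRight_fst_assoc, whiskerRight_snd_assoc,
          whiskerLeft_fst_assoc, whiskerLeft_snd_assoc, associator_hom_fst_assoc,
          associator_hom_snd_fst_assoc, associator_hom_snd_snd_assoc]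
        exact _root_.mul_assoc _ _ _ }
  letI : GrpObj H :=
    { inv := n
      left_inv := by
        show lift n (𝟙 H) ≫ m = toUnit H ≫ e
        rw [← cancel_mono j, Category.assoc, hm, MonObj.comp_mul, lift_fst_assoc, lift_snd_assoc,
          Category.id_comp, hn, inv_mul_cancel, Category.assoc, he, MonObj.comp_one]
      right_inv := by
        show lift (𝟙 H) n ≫ m = toUnit H ≫ e
        rw [← cancel_mono j, Category.assoc, hm, MonObj.comp_mul, lift_fst_assoc, lift_snd_assoc,
          Category.id_comp, hn, mul_inv_cancel, Category.assoc, he, MonObj.comp_one] }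
  refine ⟨inferInstance, { one_hom := ?_, mul_hom := ?_ }⟩
  · show e ≫ j = _
    rw [he, Hom.one_def, toUnit_unit, Category.id_comp]
  · show m ≫ j = _
    rw [hm, Hom.mul_def]
    congr 1
    exact CartesianMonoidalCategory.hom_ext _ _ (by simp) (by simp)

omit [Mono j] in
/-- A homomorphism is stable under the group operations. -/
theorem lifts_of_isMonHom [GrpObj H] [IsMonHom j] :
    (∀ (T : C) (a b : T ⟶ H), (a * b) ≫ j = (a ≫ j) * (b ≫ j)) ∧
      (∀ T : C, (1 : T ⟶ H) ≫ j = 1) ∧ ∀ (T : C) (a : T ⟶ H), a⁻¹ ≫ j = (a ≫ j)⁻¹ :=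
  ⟨fun _ a b => MonObj.mul_comp a b j, fun _ => MonObj.one_comp j, fun _ a => GrpObj.inv_comp a j⟩

end Abstract

section BaseChange

variable {S T : Scheme.{u}} {G H : Over S} (j : H ⟶ G) (h : T ⟶ S)

/-- The morphism `P ⟶ G` factors through `H` over `h`. -/
def LiftC {P : Over S} (C : P ⟶ G) : Prop :=
  ∃ v : pullback P.hom h ⟶ H.left, v ≫ j.left = pullback.fst P.hom h ≫ C.left

theorem liftC_iff {P : Over S} (C : P ⟶ G) :
    LiftC j h C ↔ ∃ n : Red.bc h P ⟶ Red.bc h H, n ≫ (Over.pullback h).map j = (Over.pullback h).map C := by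
  constructor
  · rintro ⟨v, hv⟩
    refine ⟨Over.homMk (pullback.lift v (pullback.snd _ _) (by
      rw [← Over.w j, ← Category.assoc, hv, Category.assoc]
      refine Eq.trans ?_ pullback.condition
      exact congrArg (_ ≫ ·) (Over.w C))) (pullback.lift_snd _ _ _), hom_ext₁ ?_⟩
    rw [Over.comp_left, Category.assoc, map_left_fst, map_left_fst]
    refine Eq.trans ?_ hv
    rw [← Category.assoc]
    exact congrArg (· ≫ j.left) (pullback.lift_fst _ _ _)
  · rintro ⟨n, hn⟩
    refine ⟨n.left ≫ pullback.fst H.hom h, ?_⟩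
    have h1 := congrArg (fun m => m.left ≫ pullback.fst G.hom h) hn
    simp only [Over.comp_left, Category.assoc, map_left_fst] at h1
    rw [Category.assoc]
    exact h1

theorem LiftC.comp {T' : Scheme.{u}} (q : T' ⟶ T) {P : Over S} {C : P ⟶ G} (hl : LiftC j h C) :
    LiftC j (q ≫ h) C := by
  obtain ⟨v, hv⟩ := hl
  let l : pullback P.hom (q ≫ h) ⟶ pullback P.hom h :=
    pullback.lift (pullback.fst _ _) (pullback.snd _ _ ≫ q) (by rw [Category.assoc, pullback.condition])
  refine ⟨l ≫ v, ?_⟩
  rw [Category.assoc, hv, ← Category.assoc]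
  exact congrArg (· ≫ _) (pullback.lift_fst _ _ _)

variable [GrpObj G]

/-- The product of the two universal points. -/
abbrev mulC : H ⊗ H ⟶ G := (fst H H ≫ j) * (snd H H ≫ j)

/-- The conditions for being a subgroup over `h`. -/
def IsSub : Prop :=
  LiftC j h (mulC j) ∧ LiftC j h (1 : 𝟙_ (Over S) ⟶ G) ∧ LiftC j h (j⁻¹ : H ⟶ G)

theorem map_one' {X : Over S} : (Over.pullback h).map (1 : X ⟶ G) = 1 := by
  have := Functor.map_mul (Over.pullback h) (1 : X ⟶ G) 1
  rw [_root_.one_mul] at this
  exact left_eq_mul.mp this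

theorem isSub_iff [Mono j.left] :
    IsSub j h ↔ ∃ _ : GrpObj (Red.bc h H), IsMonHom ((Over.pullback h).map j) := by
  simp only [IsSub, liftC_iff]
  constructor
  · rintro ⟨⟨a, ha⟩, ⟨b, hb⟩, ⟨n, hn⟩⟩
    haveI : Mono ((Over.pullback h).map j) := ⟨fun {Z} x y e => hom_ext₁ ?_⟩
    · rw [map_inv'] at hn
      rw [Functor.map_mul, Functor.map_comp, Functor.map_comp] at ha
      rw [map_one'] at hb
      refine exists_grpObj _ (pairPt h (fst _ _) (snd _ _) ≫ a) ?_
        (Functor.LaxMonoidal.ε (Over.pullback h) ≫ b) ?_ n hn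
      · rw [Category.assoc, ha, MonObj.comp_mul, reassoc_of% (pairPt_fst h (fst _ _) (snd _ _)),
          reassoc_of% (pairPt_snd h (fst (Red.bc h H) (Red.bc h H)) (snd _ _))]
      · rw [Category.assoc, hb, MonObj.comp_one]
    · have h1 := congrArg (fun m => m.left ≫ pullback.fst G.hom h) e
      simp only [Over.comp_left, Category.assoc, map_left_fst] at h1
      rw [← cancel_mono j.left, Category.assoc, Category.assoc]
      exact h1
  · rintro ⟨_, _⟩
    obtain ⟨h1, h2, h3⟩ := lifts_of_isMonHom ((Over.pullback h).map j)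
    refine ⟨⟨(Over.pullback h).map (fst H H) * (Over.pullback h).map (snd H H), ?_⟩, ⟨1, ?_⟩,
      ⟨(𝟙 _)⁻¹, ?_⟩⟩
    · rw [h1, Functor.map_mul, Functor.map_comp, Functor.map_comp]
    · rw [h2, map_one']
    · rw [h3, Category.id_comp, map_inv']

/-- The conjugate of the universal point of `H` by that of `G`. -/
abbrev conjC : G ⊗ H ⟶ G := fst G H * (snd G H ≫ j) * (fst G H)⁻¹

theorem isNormalHom_iff [GrpObj (Red.bc h H)] :
    AlgGrp.IsNormalHom ((Over.pullback h).map j) ↔ LiftC j h (conjC j) := by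
  rw [liftC_iff]
  constructor
  · intro hn
    obtain ⟨n', hn'⟩ := hn _ ((Over.pullback h).map (fst G H)) ((Over.pullback h).map (snd G H))
    rw [← Functor.map_comp, ← Functor.map_mul, ← map_inv', ← Functor.map_mul] at hn'
    exact ⟨n', hn'.symm⟩
  · rintro ⟨w, hw⟩ X g n
    refine ⟨pairPt h g n ≫ w, ?_⟩
    rw [Category.assoc, hw, Functor.map_mul, Functor.map_mul, map_inv', Functor.map_comp, MonObj.comp_mul,
      MonObj.comp_mul, GrpObj.comp_inv, pairPt_fst, reassoc_of% (pairPt_snd h g n)]

end BaseChange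

variable {I : Type u} [SmallCategory I] [IsCofiltered I] (D : I ⥤ Scheme.{u}) {c : Cone D} (hc : IsLimit c)
  [∀ (i i' : I) (f : i ⟶ i'), IsAffineHom (D.map f)]

include hc in
/-- A factorisation over the limit comes from a stage. -/
theorem exists_liftC {i₀ : I} [CompactSpace (D.obj i₀)] [QuasiSeparatedSpace (D.obj i₀)] {G H P : Over (D.obj i₀)}
    [QuasiCompact P.hom] [QuasiSeparated P.hom] (j : H ⟶ G) [LocallyOfFinitePresentation j.left] (C : P ⟶ G)
    (hl : LiftC j (c.π.app i₀) C) : ∃ (i : I) (f : i ⟶ i₀), LiftC j (D.map f) C := by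
  haveI : ∀ {i j : I} (f : i ⟶ j), IsAffineHom (D.map f) := fun {i j} f => inferInstance
  haveI : CompactSpace P.left := QuasiCompact.compactSpace_of_compactSpace P.hom
  haveI : QuasiSeparatedSpace P.left := quasiSeparatedSpace_of_quasiSeparated P.hom
  obtain ⟨v, hv⟩ := hl
  let hX := IsPullback.of_hasPullback P.hom (c.π.app i₀)
  let t : MorLib.BC.diag D P.hom ⟶ (Functor.const (Over i₀)).obj G.left :=
    MorLib.BC.toStart D P.hom ≫ (Functor.const (Over i₀)).map C.left
  obtain ⟨k, v', hv1, hv2⟩ := Scheme.exists_π_app_comp_eq_of_locallyOfFinitePresentation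
    (MorLib.BC.diag D P.hom) t j.left (MorLib.BC.cone D P.hom hX) (MorLib.BC.isLimitCone D P.hom hX hc) v (by
      ext l
      show MorLib.BC.proj D P.hom hX l ≫ pullback.fst _ _ ≫ C.left = v ≫ j.left
      rw [MorLib.BC.proj_fst_assoc, hv])
  exact ⟨k.left, k.hom, v', hv2⟩

end Groth.Agent.GrpLimLib.Subgroup
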